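import Groth.Agent.Lib.Mero.Div
import Groth.Agent.Lib.Mero.ZeroDiv
import Groth.Agent.Lib.Mero.Regular
import Mathlib.AlgebraicGeometry.Properties
import Mathlib.Topology.NoetherianSpace

/-!
# Divisors on absolute curves
-/

set_option autoImplicit false
set_option linter.style.haveILetI false
universe u

open CategoryTheory AlgebraicGeometry TopologicalSpace Opposite Topology

namespace GrothLib.MeroCurve

open GrothLib.Mero GrothLib.Mero.Zero

variable {C : Scheme.{u}}

/-- A closed set of a Noetherian sober space consisting of closed points is finite. -/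
theorem finite_of_closed_points {α : Type*} [TopologicalSpace α] [NoetherianSpace α] [QuasiSober α]
    {Z : Set α} (hZ : IsClosed Z) (hpts : ∀ z ∈ Z, IsClosed ({z} : Set α)) : Z.Finite := by
  obtain ⟨S, hSf, hSc, hSi, rfl⟩ := NoetherianSpace.exists_finite_set_isClosed_irreducible hZ
  refine hSf.sUnion fun W hW => ?_
  obtain ⟨g, hg⟩ := QuasiSober.sober (hSi W hW) (hSc W hW)
  have hgW : g ∈ W := hg.def ▸ subset_closure rfl
  have : W = {g} := hg.def.symm.trans (hpts g ⟨W, hW, hgW⟩).closure_eq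
  rw [this]; exact Set.finite_singleton g

section Curve

variable [IsNoetherian C] (hC : ∀ x : C, IsClosed ({x} : Set C) → ringKrullDim (C.presheaf.stalk x) = 1)
include hC

theorem stalk_dim_zero {y : C} (hy : ¬ IsClosed ({y} : Set C)) : Ring.KrullDimLE 0 (C.presheaf.stalk y) := by
  obtain ⟨x, hxy, hx⟩ := (isClosed_closure (s := ({y} : Set C))).exists_closed_singleton
    ⟨y, subset_closure rfl⟩
  have h1 := hC x hx
  rw [ringKrullDim_stalk_eq_coheight, ← WithBot.coe_one, WithBot.coe_inj] at h1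
  have hsp : y ⤳ x := specializes_iff_mem_closure.2 hxy
  have hlt : x < y := lt_of_le_not_ge hsp fun h => hy <| by
    have := Inseparable.eq (Specializes.antisymm hsp h)
    rwa [this]
  have h2 := Order.coheight_strictAnti hlt (by
    exact lt_of_le_of_lt (Order.coheight_anti hlt.le) (by rw [h1]; exact ENat.coe_lt_top 1))
  rw [h1, ENat.lt_one_iff_eq_zero] at h2
  rw [Ring.krullDimLE_iff, ringKrullDim_stalk_eq_coheight, h2]
  simp

theorem isUnit_of_nonZeroDivisor {y : C} (hy : ¬ IsClosed ({y} : Set C)) {a : C.presheaf.stalk y}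
    (ha : a ∈ nonZeroDivisors (C.presheaf.stalk y)) : IsUnit a := by
  haveI := stalk_dim_zero hC hy
  by_contra hu
  obtain ⟨n, hn⟩ := Ring.KrullDimLE.isNilpotent_iff_mem_nonunits.mpr hu
  exact zero_ne_one (mem_nonZeroDivisors_iff_left.mp (pow_mem ha n) 1 (by rw [hn, zero_mul])).symm

theorem divisor_eq_one_of_not_closed (D : Mero.Divisor C) {y : C} (hy : ¬ IsClosed ({y} : Set C)) :
    D.1 y = 1 :=
  germ_eq_one_of_units (fun _ ha => isUnit_of_nonZeroDivisor hC hy ha) D

/-- The zero set of a regular section, as a finite set of closed points. -/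
theorem finite_nonunits {U : C.Opens} {a : Γ(C, U)} (ha : a ∈ Mero.regSub C U) :
    {y : C | ∃ h : y ∈ U, ¬ IsUnit (C.presheaf.germ U y h a)}.Finite ∧
      ∀ y ∈ {y : C | ∃ h : y ∈ U, ¬ IsUnit (C.presheaf.germ U y h a)}, IsClosed ({y} : Set C) := by
  have hcl : ∀ y ∈ {y : C | ∃ h : y ∈ U, ¬ IsUnit (C.presheaf.germ U y h a)}, IsClosed ({y} : Set C) := by
    rintro y ⟨hyU, hy⟩
    by_contra hc
    exact hy (isUnit_of_nonZeroDivisor hC hc (ha ⟨y, hyU⟩))
  refine ⟨?_, hcl⟩
  haveI : QuasiSober (U : Set C) := U.2.isOpenEmbedding_subtypeVal.quasiSober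
  let Z : Set (U : Set C) := {y | y.1 ∉ C.basicOpen a}
  have hZ : IsClosed Z := ((C.basicOpen a).2.preimage continuous_subtype_val).isClosed_compl
  have hZ' : ∀ y ∈ Z, y.1 ∈ {y : C | ∃ h : y ∈ U, ¬ IsUnit (C.presheaf.germ U y h a)} := fun y hy =>
    ⟨y.2, fun h => hy ((C.mem_basicOpen a y.1 y.2).2 h)⟩
  have hfin : Z.Finite := finite_of_closed_points hZ fun y hy => by
    have := (hcl _ (hZ' y hy)).preimage (continuous_subtype_val (p := fun x => x ∈ (U : Set C)))
    rwa [← Set.image_singleton, Subtype.val_injective.preimage_image] at this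
  refine (hfin.image Subtype.val).subset ?_
  rintro y ⟨hyU, hy⟩
  exact ⟨⟨y, hyU⟩, fun h => hy ((C.mem_basicOpen a y hyU).1 h), rfl⟩

end Curve

theorem classOf_eq_one_iff {y : C} (a : Mero.regStalk C y) :
    classOf a = 1 ↔ IsUnit (a : C.presheaf.stalk y) := by
  rw [classOf, QuotientGroup.eq_one_iff]
  constructor
  · rintro ⟨v, hv⟩
    have := congrArg Units.val hv
    rw [IsUnit.unit_spec] at this
    exact ⟨v, Mero.algebraMap_KStalk_injective y this⟩
  · rintro ⟨v, hv⟩
    exact ⟨v, Units.ext (by rw [IsUnit.unit_spec, ← hv]; rfl)⟩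

theorem germOf_toK {U : C.Opens} {a : Γ(C, U)} (ha : a ∈ Mero.regSub C U) (y : U) :
    Mero.germOf (isUnit_toK U ha).unit y = classOf (Mero.regGerm y ⟨a, ha⟩) := by
  refine congrArg QuotientGroup.mk (Units.ext ?_)
  rw [Units.coe_map, IsUnit.unit_spec, IsUnit.unit_spec]
  exact toK_apply_eq a y

variable [IsNoetherian C]

theorem exists_classOf {y : C} (g : Mero.Germ C y) :
    ∃ a b : Mero.regStalk C y, g = classOf a * (classOf b)⁻¹ := by
  obtain ⟨u, rfl⟩ := QuotientGroup.mk_surjective g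
  obtain ⟨⟨a, s⟩, hs⟩ := IsLocalization.surj (Mero.regStalk C y) (u : Mero.KStalk C y)
  dsimp only at hs
  have ha : a ∈ Mero.regStalk C y := by
    rw [regStalk_eq locFiniteWA_of_noetherian, mem_nonZeroDivisors_iff_left]
    intro c hc
    refine Mero.algebraMap_KStalk_injective y ?_
    rw [map_zero]
    have h0 := congrArg (algebraMap (C.presheaf.stalk y) (Mero.KStalk C y)) hc
    rw [map_mul, ← hs, map_zero, mul_assoc] at h0
    have h1 := (Units.mul_right_eq_zero u).1 h0
    exact (IsLocalization.map_units (Mero.KStalk C y) s).mul_right_eq_zero.1 h1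
  refine ⟨⟨a, ha⟩, s, ?_⟩
  rw [classOf, classOf, ← QuotientGroup.mk_inv, ← QuotientGroup.mk_mul]
  refine congrArg QuotientGroup.mk (eq_mul_inv_iff_mul_eq.2 (Units.ext ?_))
  rw [Units.val_mul, IsUnit.unit_spec, IsUnit.unit_spec]
  exact hs

variable (hC : ∀ x : C, IsClosed ({x} : Set C) → ringKrullDim (C.presheaf.stalk x) = 1)
include hC

theorem finite_supp (D : Mero.Divisor C) : {x : C | D.1 x ≠ 1}.Finite := by
  have key : ∀ x : C, ∃ W : C.Opens, x ∈ W ∧ ({y : C | D.1 y ≠ 1} ∩ (W : Set C)).Finite := by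
    intro x
    obtain ⟨U, hxU, f, hf⟩ := D.2 x
    obtain ⟨W, hxW, i, a, b, hab⟩ := (f : Γ(Mero.kmod C, U)).2 ⟨x, hxU⟩
    have hab' : ∀ (y : C) (hy : y ∈ W), (Units.map (Mero.evalK C U ⟨y, i.le hy⟩).toMonoidHom f : Mero.KStalk C y) *
        algebraMap _ _ (C.presheaf.germ W y hy b.1) = algebraMap _ _ (C.presheaf.germ W y hy a) := by
      intro y hy
      show (f : Γ(Mero.kmod C, U)).1 ⟨y, i.le hy⟩ * _ = _
      have h := hab ⟨y, hy⟩
      dsimp only at h
      rw [show (f : Γ(Mero.kmod C, U)).1 ⟨y, i.le hy⟩ = _ from h]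
      show Localization.mk (C.presheaf.germ W y hy a) (Mero.regGerm ⟨y, hy⟩ b) * _ = _
      rw [Localization.mk_eq_mk']
      exact IsLocalization.mk'_spec (Mero.KStalk C y) (C.presheaf.germ W y hy a) (Mero.regGerm ⟨y, hy⟩ b)
    have ha : a ∈ Mero.regSub C W := by
      intro y
      rw [mem_nonZeroDivisors_iff_left]
      intro c hc
      refine Mero.algebraMap_KStalk_injective y.1 ?_
      rw [map_zero]
      have h0 := congrArg (algebraMap (C.presheaf.stalk y.1) (Mero.KStalk C y.1)) hc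
      rw [map_mul, ← hab' y.1 y.2, map_zero, mul_assoc] at h0
      have h1 := (Units.mul_right_eq_zero _).1 h0
      exact (IsLocalization.map_units (Mero.KStalk C y.1) (Mero.regGerm y b)).mul_right_eq_zero.1 h1
    refine ⟨W, hxW, ((finite_nonunits hC ha).1.union (finite_nonunits hC b.2).1).subset ?_⟩
    rintro y ⟨hy, hyW⟩
    by_contra hc
    rw [Set.mem_union, not_or] at hc
    obtain ⟨hca, hcb⟩ := hc
    have hua : IsUnit (C.presheaf.germ W y hyW a) := not_not.1 fun h => hca ⟨hyW, h⟩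
    have hub : IsUnit (C.presheaf.germ W y hyW b.1) := not_not.1 fun h => hcb ⟨hyW, h⟩
    refine hy ((hf ⟨y, i.le hyW⟩).trans ((QuotientGroup.eq_one_iff _).2 ?_))
    refine ⟨hua.unit * hub.unit⁻¹, ?_⟩
    rw [map_mul, map_inv, mul_inv_eq_iff_eq_mul]
    refine Units.ext ?_
    rw [Units.val_mul, Units.coe_map, Units.coe_map]
    exact (hab' y hyW).symm
  choose W hxW hW using key
  obtain ⟨t, ht⟩ := (CompactSpace.isCompact_univ (X := C)).elim_finite_subcover (fun x => (W x : Set C))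
    (fun x => (W x).2) (fun x _ => Set.mem_iUnion.2 ⟨x, hxW x⟩)
  refine (t.finite_toSet.biUnion fun x _ => hW x).subset fun y hy => ?_
  obtain ⟨x, hx, hyx⟩ := Set.mem_iUnion₂.1 (ht (Set.mem_univ y))
  exact Set.mem_biUnion hx ⟨hy, hyx⟩

/-- A finitely supported family of germs at closed points is a divisor. -/
theorem mem_divisorGroup_of_finite {g : ∀ x : C, Mero.Germ C x} (hfin : {x : C | g x ≠ 1}.Finite)
    (hg : ∀ x : C, ¬ IsClosed ({x} : Set C) → g x = 1) : g ∈ Mero.divisorGroup C := by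
  intro x
  obtain ⟨⟨a, U, hxU, sa, hsa, hea⟩, ⟨b, V, hxV, sb, hsb, heb⟩, hab⟩ := exists_classOf (g x)
  let W := U ⊓ V
  let sa' := C.presheaf.map (homOfLE (inf_le_left : W ≤ U)).op sa
  let sb' := C.presheaf.map (homOfLE (inf_le_right : W ≤ V)).op sb
  have ha' : sa' ∈ Mero.regSub C W := Mero.regSub_res _ hsa
  have hb' : sb' ∈ Mero.regSub C W := Mero.regSub_res _ hsb
  let T : Set C := ({y | g y ≠ 1} ∪ {y | ∃ h : y ∈ W, ¬ IsUnit (C.presheaf.germ W y h sa')} ∪
    {y | ∃ h : y ∈ W, ¬ IsUnit (C.presheaf.germ W y h sb')}) \ {x}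
  have hTf : T.Finite := ((hfin.union (finite_nonunits hC ha').1).union (finite_nonunits hC hb').1).subset Set.diff_subset
  have hTc : IsClosed T := by
    rw [← Set.biUnion_of_singleton T]
    refine hTf.isClosed_biUnion fun y hy => ?_
    rcases hy.1 with (h | h) | h
    · exact not_not.1 fun hc => h (hg y hc)
    · exact (finite_nonunits hC ha').2 y h
    · exact (finite_nonunits hC hb').2 y h
  let W' : C.Opens := W ⊓ ⟨Tᶜ, hTc.isOpen_compl⟩
  let ta := C.presheaf.map (homOfLE (inf_le_left : W' ≤ W)).op sa'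
  let tb := C.presheaf.map (homOfLE (inf_le_left : W' ≤ W)).op sb'
  have hta : ta ∈ Mero.regSub C W' := Mero.regSub_res _ ha'
  have htb : tb ∈ Mero.regSub C W' := Mero.regSub_res _ hb'
  refine ⟨W', ⟨⟨hxU, hxV⟩, fun h => h.2 rfl⟩, (isUnit_toK W' hta).unit * (isUnit_toK W' htb).unit⁻¹, fun y => ?_⟩
  have hmul : Mero.germOf ((isUnit_toK W' hta).unit * (isUnit_toK W' htb).unit⁻¹) y =
      classOf (Mero.regGerm y ⟨ta, hta⟩) * (classOf (Mero.regGerm y ⟨tb, htb⟩))⁻¹ := by
    rw [← germOf_toK hta, ← germOf_toK htb, Mero.germOf, Mero.germOf, Mero.germOf, map_mul, map_inv,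
      QuotientGroup.mk_mul, QuotientGroup.mk_inv]
  rw [hmul]
  by_cases hyx : y.1 = x
  · obtain ⟨y, hy⟩ := y
    dsimp only at hyx
    subst hyx
    rw [hab]
    refine congrArg₂ (· * ·) (congrArg classOf (Subtype.ext ?_)) (congrArg (fun t => (classOf t)⁻¹) (Subtype.ext ?_))
    · show a = C.presheaf.germ W' y hy ta
      simp only [ta, sa', TopCat.Presheaf.germ_res_apply]; exact hea.symm
    · show b = C.presheaf.germ W' y hy tb
      simp only [tb, sb', TopCat.Presheaf.germ_res_apply]; exact heb.symm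
  · have hyT : y.1 ∉ T := y.2.2
    have h1 : g y.1 = 1 := not_not.1 fun h => hyT ⟨Or.inl (Or.inl h), hyx⟩
    have h2 : classOf (Mero.regGerm y ⟨ta, hta⟩) = 1 := (classOf_eq_one_iff _).2 (not_not.1 fun h =>
      hyT ⟨Or.inl (Or.inr ⟨y.2.1, fun hu => h (by
        show IsUnit (C.presheaf.germ W' y.1 y.2 ta)
        rwa [TopCat.Presheaf.germ_res_apply])⟩), hyx⟩)
    have h3 : classOf (Mero.regGerm y ⟨tb, htb⟩) = 1 := (classOf_eq_one_iff _).2 (not_not.1 fun h =>
      hyT ⟨Or.inr ⟨y.2.1, fun hu => h (by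
        show IsUnit (C.presheaf.germ W' y.1 y.2 tb)
        rwa [TopCat.Presheaf.germ_res_apply])⟩, hyx⟩)
    rw [h1, h2, h3, inv_one]
    exact (one_mul (1 : Mero.Germ C y.1)).symm

end GrothLib.MeroCurve
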